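import Groth.Agent.FerrandPush.BaseChange
import Groth.Agent.CAlgBasics.FlatAux

/-!
# Ringed-space pushouts of schemes are pushouts of schemes; flatness of pinchings
-/

set_option autoImplicit false
set_option backward.isDefEq.respectTransparency false
set_option linter.style.haveILetI false

universe u

open CategoryTheory CategoryTheory.Limits AlgebraicGeometry TopologicalSpace

namespace Groth.Agent.PinchFlatLib

variable {X Z Z' X' : Scheme.{u}} {ι : Z ⟶ X} {q : Z ⟶ Z'} {π : X ⟶ X'} {ι' : Z' ⟶ X'}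

local notation "𝐅" => Scheme.forgetToLocallyRingedSpace ⋙ LocallyRingedSpace.forgetToSheafedSpace

/-- The two legs of a ringed-space pushout are jointly surjective. -/
theorem jointly_surjective
    (hpo : IsPushout ((𝐅).map ι) ((𝐅).map q) ((𝐅).map π) ((𝐅).map ι')) (x : X') :
    x ∈ Set.range π ∨ x ∈ Set.range ι' := by
  have hT : IsPushout ((SheafedSpace.forget CommRingCat.{u}).map ((𝐅).map ι))
      ((SheafedSpace.forget CommRingCat.{u}).map ((𝐅).map q))
      ((SheafedSpace.forget CommRingCat.{u}).map ((𝐅).map π))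
      ((SheafedSpace.forget CommRingCat.{u}).map ((𝐅).map ι')) := hpo.map _
  have hS := hT.map (forget TopCat.{u})
  rcases Types.eq_or_eq_of_isPushout' hS x with h | h
  · obtain ⟨y, hy⟩ := h
    exact Or.inl ⟨y, hy⟩
  · obtain ⟨y, hy, -⟩ := h
    exact Or.inr ⟨y, hy⟩

/-- A pushout in ringed spaces is a pushout of schemes. -/
theorem isPushout_scheme
    (hpo : IsPushout ((𝐅).map ι) ((𝐅).map q) ((𝐅).map π) ((𝐅).map ι')) :
    IsPushout ι q π ι' := by
  have hinj : ∀ {A B : Scheme.{u}} (a b : A ⟶ B), (𝐅).map a = (𝐅).map b → a = b :=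
    fun a b h => (𝐅).map_injective h
  have w : ι ≫ π = q ≫ ι' := hinj _ _ (by rw [Functor.map_comp, Functor.map_comp]; exact hpo.w)
  refine IsPushout.of_isColimit' ⟨w⟩ ?_
  refine PushoutCocone.IsColimit.mk w
    (fun s => ⟨⟨(hpo.desc ((𝐅).map s.inl) ((𝐅).map s.inr)
      (by rw [← Functor.map_comp, ← Functor.map_comp, s.condition])).hom, ?_⟩⟩)
    (fun s => ?_) (fun s => ?_) (fun s m hl hr => ?_)
  · intro x
    let d := hpo.desc ((𝐅).map s.inl) ((𝐅).map s.inr)
      (by rw [← Functor.map_comp, ← Functor.map_comp, s.condition])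
    have key : ∀ {A : Scheme.{u}} (a : A ⟶ X') (b : A ⟶ s.pt), (𝐅).map a ≫ d = (𝐅).map b →
        ∀ y : A, IsLocalHom ((PresheafedSpace.Hom.stalkMap d.hom (a y))).hom := by
      intro A a b hab y
      have h1 : IsLocalHom (PresheafedSpace.Hom.stalkMap ((𝐅).map a ≫ d).hom y).hom := by
        rw [hab]
        exact inferInstanceAs (IsLocalHom (b.stalkMap y).hom)
      change IsLocalHom (PresheafedSpace.Hom.stalkMap (((𝐅).map a).hom ≫ d.hom) y).hom at h1
      rw [PresheafedSpace.stalkMap.comp, CommRingCat.hom_comp] at h1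
      haveI : IsLocalHom (PresheafedSpace.Hom.stalkMap ((𝐅).map a).hom y).hom :=
        inferInstanceAs (IsLocalHom (a.stalkMap y).hom)
      exact ⟨fun t ht => h1.map_nonunit t (ht.map (PresheafedSpace.Hom.stalkMap ((𝐅).map a).hom y).hom)⟩
    rcases jointly_surjective hpo x with ⟨y, rfl⟩ | ⟨y, rfl⟩
    · exact key π s.inl (hpo.inl_desc _ _ _) y
    · exact key ι' s.inr (hpo.inr_desc _ _ _) y
  · exact hinj _ _ (by rw [Functor.map_comp]; exact hpo.inl_desc _ _ _)
  · exact hinj _ _ (by rw [Functor.map_comp]; exact hpo.inr_desc _ _ _)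
  · refine hinj _ _ (hpo.hom_ext ?_ ?_)
    · rw [← Functor.map_comp, hl]
      exact (hpo.inl_desc _ _ _).symm
    · rw [← Functor.map_comp, hr]
      exact (hpo.inr_desc _ _ _).symm

/-- A pinching of flat schemes is flat. -/
theorem flat_of_isPushout {S : Scheme.{u}} [IsClosedImmersion ι] [IsAffineHom q] [IsAffineHom π]
    [IsAffineHom ι'] (hP : IsPushout ι q π ι') (f : X' ⟶ S) [Flat (π ≫ f)] [Flat (ι' ≫ f)]
    [Flat ((ι ≫ π) ≫ f)] : Flat f := by
  have main : ∀ x : X', ∃ W : X'.Opens, x ∈ W ∧ Flat ((Scheme.Opens.ι W) ≫ f) := by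
    intro x
    obtain ⟨_, ⟨U₀, hU₀, rfl⟩, hxU, -⟩ :=
      S.isBasis_affineOpens.exists_subset_of_mem_open (Set.mem_univ (f x)) isOpen_univ
    obtain ⟨_, ⟨W, hW, rfl⟩, hxW, hWU⟩ := X'.isBasis_affineOpens.exists_subset_of_mem_open
      (show x ∈ ((f ⁻¹ᵁ U₀ : X'.Opens) : Set X') from hxU) (f ⁻¹ᵁ U₀).isOpen
    refine ⟨W, hxW, ?_⟩
    obtain ⟨α, ρ, hρo, hρW, hρA, hρB⟩ := FerrandPush.exists_cart_of_affineOpen hP hW
    haveI := hρo
    let D := α.cart
    have hlift : Set.range (ρ ≫ f) ⊆ Set.range hU₀.fromSpec := by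
      rintro _ ⟨c, rfl⟩
      rw [hU₀.range_fromSpec, Scheme.Hom.comp_apply]
      exact hWU (show ρ c ∈ (W : Set X') from hρW ▸ ⟨c, rfl⟩)
    obtain ⟨φ, hφ⟩ := Spec.map_surjective (IsOpenImmersion.lift hU₀.fromSpec (ρ ≫ f) hlift)
    have eφ : Spec.map φ ≫ hU₀.fromSpec = ρ ≫ f := by rw [hφ, IsOpenImmersion.lift_fac]
    have hleg : ∀ {A : Scheme.{u}} (a : A ⟶ X') {U : A.Opens} (hU : IsAffineOpen U)
        (r : CommRingCat.of α.subring ⟶ Γ(A, U)), Spec.map r ≫ ρ = hU.fromSpec ≫ a → Flat (a ≫ f) →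
        (φ ≫ r).hom.Flat := by
      intro A a U hU r hr hflat
      rw [← HasRingHomProperty.Spec_iff (P := @Flat)]
      have h1 : Flat ((Spec.map (φ ≫ r)) ≫ hU₀.fromSpec) := by
        rw [Spec.map_comp, Category.assoc, eφ, ← Category.assoc, hr, Category.assoc]
        infer_instance
      exact MorphismProperty.of_postcomp (W := @Flat) (W' := @IsOpenImmersion) _ hU₀.fromSpec
        inferInstance h1
    let R := Γ(S, U₀)
    letI : Algebra R α.subring := φ.hom.toAlgebra
    letI : Algebra R Γ(Z', α.V) := (D.fst.comp φ.hom).toAlgebra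
    letI : Algebra R Γ(X, α.U) := (D.snd.comp φ.hom).toAlgebra
    letI : Algebra R Γ(Z, α.W) := ((D.p.comp D.snd).comp φ.hom).toAlgebra
    haveI : Module.Flat R Γ(X, α.U) :=
      hleg π α.hU (CommRingCat.ofHom D.snd) hρA.w inferInstance
    haveI : Module.Flat R Γ(Z', α.V) :=
      hleg ι' α.hV (CommRingCat.ofHom D.fst) hρB.w inferInstance
    haveI : Module.Flat R Γ(Z, α.W) := by
      refine hleg (ι ≫ π) α.hW (CommRingCat.ofHom (D.p.comp D.snd)) ?_ inferInstance
      have h2 : Spec.map (CommRingCat.ofHom D.p) ≫ α.hU.fromSpec = α.hW.fromSpec ≫ ι :=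
        α.hU.SpecMap_appLE_fromSpec ι α.hW le_rfl
      rw [CommRingCat.ofHom_comp, Spec.map_comp, Category.assoc]
      refine Eq.trans (congrArg (Spec.map (CommRingCat.ofHom D.p) ≫ ·) hρA.w) ?_
      rw [← Category.assoc, h2, Category.assoc]
    let pair : α.subring →ₗ[R] Γ(Z', α.V) × Γ(X, α.U) :=
      { toFun := fun c => (D.fst c, D.snd c)
        map_add' := fun a b => by simp only [map_add]; rfl
        map_smul' := fun r a => Prod.ext (map_mul D.fst _ _) (map_mul D.snd _ _) }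
    let diff : Γ(Z', α.V) × Γ(X, α.U) →ₗ[R] Γ(Z, α.W) :=
      { toFun := fun z => D.q z.1 - D.p z.2
        map_add' := fun a b => by simp only [Prod.fst_add, Prod.snd_add, map_add]; abel
        map_smul' := fun r a => by
          show D.q (D.fst (φ r) * a.1) - D.p (D.snd (φ r) * a.2) = D.p (D.snd (φ r)) * (D.q a.1 - D.p a.2)
          rw [map_mul, map_mul, D.w, mul_sub] }
    haveI : Module.Flat R (Γ(Z', α.V) × Γ(X, α.U)) :=
      CAlgBasics.flat_of_exact (f := LinearMap.inl R Γ(Z', α.V) Γ(X, α.U))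
        (g := LinearMap.snd R Γ(Z', α.V) Γ(X, α.U)) LinearMap.inl_injective
        Function.Exact.inl_snd LinearMap.snd_surjective
    have hfl : Module.Flat R α.subring :=
      CAlgBasics.flat_ker_of_exact (f := pair) (g := diff)
        (fun a b h => D.ext' a b (congrArg Prod.fst h) (congrArg Prod.snd h))
        (fun z => ⟨fun h => by
            obtain ⟨c, h1, h2⟩ := D.lift' z.1 z.2 (sub_eq_zero.1 h)
            exact ⟨c, Prod.ext h1 h2⟩,
          fun ⟨c, hc⟩ => by
            subst hc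
            exact sub_eq_zero.2 (D.w c)⟩)
        (fun a => by
          obtain ⟨a', ha⟩ := D.surj (-a)
          exact ⟨(0, a'), by show D.q 0 - D.p a' = a; rw [map_zero, ha, zero_sub, neg_neg]⟩)
    haveI : Flat (Spec.map φ) := (HasRingHomProperty.Spec_iff (P := @Flat)).2 hfl
    haveI : Flat (ρ ≫ f) := by rw [← eφ]; infer_instance
    have he : (Scheme.Opens.ι W) ≫ f = (IsOpenImmersion.isoOfRangeEq (Scheme.Opens.ι W) ρ
        (by rw [Scheme.Opens.range_ι, hρW])).hom ≫ ρ ≫ f := by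
      rw [IsOpenImmersion.isoOfRangeEq_hom_fac_assoc]
    rw [he]
    infer_instance
  choose W hxW hW using main
  exact IsZariskiLocalAtSource.of_iSup_eq_top (P := @Flat) W
    (eq_top_iff.2 fun x _ => Opens.mem_iSup.2 ⟨x, hxW x⟩) hW

end Groth.Agent.PinchFlatLib
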