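import Groth.Agent.PinchFlatLib.Sections

/-!
# Pushouts of schemes along a closed immersion and an affine morphism are pushouts of ringed spaces
-/

set_option autoImplicit false
set_option backward.isDefEq.respectTransparency false
set_option linter.style.haveILetI false

universe u

open CategoryTheory CategoryTheory.Limits AlgebraicGeometry TopologicalSpace Opposite

noncomputable section

namespace Groth.Agent.PinchFlatLib

theorem range_eq_preimage_of_isPullback {A B C D : Scheme.{u}} {f : A ⟶ B} {g : A ⟶ C} {h : B ⟶ D}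
    {k : C ⟶ D} (H : IsPullback f g h k) : Set.range g = k ⁻¹' Set.range h := by
  have e : Set.range (H.isoPullback.hom ≫ pullback.snd h k) = Set.range (pullback.snd h k) :=
    (Scheme.homeoOfIso H.isoPullback).surjective.range_comp (pullback.snd h k)
  rw [← Scheme.Pullback.range_snd, ← e, IsPullback.isoPullback_hom_snd]

variable {X Y Z P : Scheme.{u}} {i : Z ⟶ X} {j : Z ⟶ Y} [IsClosedImmersion i]
  [IsAffineHom j] {a : X ⟶ P} {b : Y ⟶ P} [IsAffineHom a] [IsAffineHom b]
  (hP : IsPushout i j a b)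

include hP

/-- A chart at a point, with the points of the legs lifted to it. -/
theorem exists_chart_at (x : P) : ∃ (α : FerrandPush.Chart i j) (ρ : α.obj ⟶ P),
    IsOpenImmersion ρ ∧ x ∈ Set.range ρ ∧
    α.cart.iA' ≫ ρ = α.hU.fromSpec ≫ a ∧ α.cart.iB ≫ ρ = α.hV.fromSpec ≫ b ∧
    (∀ y : X, a y ∈ Set.range ρ → y ∈ Set.range α.hU.fromSpec) ∧
    (∀ y : Y, b y ∈ Set.range ρ → y ∈ Set.range α.hV.fromSpec) := by
  obtain ⟨_, ⟨W, hW, rfl⟩, hxW, -⟩ :=
    P.isBasis_affineOpens.exists_subset_of_mem_open (Set.mem_univ x) isOpen_univ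
  obtain ⟨α, ρ, hρo, hρW, hρA, hρB⟩ := FerrandPush.exists_cart_of_affineOpen hP hW
  refine ⟨α, ρ, hρo, hρW ▸ hxW, hρA.w, hρB.w, fun y hy => ?_, fun y hy => ?_⟩
  · exact (range_eq_preimage_of_isPullback hρA).ge hy
  · exact (range_eq_preimage_of_isPullback hρB).ge hy

theorem jointly_surjective_of_scheme (x : P) : x ∈ Set.range a ∨ x ∈ Set.range b := by
  obtain ⟨α, ρ, _, ⟨c, rfl⟩, hA, hB, -, -⟩ := exists_chart_at hP x
  rcases α.cart.exists_prime c with ⟨y, rfl⟩ | ⟨y, rfl⟩
  · refine Or.inr ⟨α.hV.fromSpec y, ?_⟩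
    have := congrArg (fun t => t y) hB
    simp only [Scheme.Hom.comp_apply] at this
    exact this.symm
  · refine Or.inl ⟨α.hU.fromSpec y, ?_⟩
    have := congrArg (fun t => t y) hA
    simp only [Scheme.Hom.comp_apply] at this
    exact this.symm

/-- The second leg is injective. -/
theorem injective_right {y₁ y₂ : Y} (h : b y₁ = b y₂) : y₁ = y₂ := by
  obtain ⟨α, ρ, _, hx, -, hB, -, hb⟩ := exists_chart_at hP (b y₁)
  obtain ⟨z₁, rfl⟩ := hb y₁ hx
  obtain ⟨z₂, rfl⟩ := hb y₂ (h ▸ hx)
  simp only [← Scheme.Hom.comp_apply, ← hB] at h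
  simp only [Scheme.Hom.comp_apply] at h
  rw [α.cart.comap_fst_injective (ρ.isOpenEmbedding.injective h)]

/-- A coincidence between the legs comes from the overlap. -/
theorem exists_overlap {x : X} {y : Y} (h : a x = b y) : ∃ z, i z = x ∧ j z = y := by
  obtain ⟨α, ρ, _, hx, hA, hB, ha, hb⟩ := exists_chart_at hP (a x)
  obtain ⟨x', rfl⟩ := ha x hx
  obtain ⟨y', rfl⟩ := hb y (h ▸ hx)
  simp only [← Scheme.Hom.comp_apply, ← hA, ← hB] at h
  simp only [Scheme.Hom.comp_apply] at h
  have h' : PrimeSpectrum.comap α.cart.snd x' = PrimeSpectrum.comap α.cart.fst y' :=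
    ρ.isOpenEmbedding.injective h
  obtain ⟨w, hw⟩ := α.cart.exists_comap_p (α.cart.ker_le_of_comap_eq h')
  subst hw
  rw [← α.cart.comap_w] at h'
  have hy := α.cart.comap_fst_injective h'
  subst hy
  refine ⟨α.hW.fromSpec w, ?_, ?_⟩
  · have := congrArg (fun t => t w) (FerrandPush.Chart.specMap_p_fromSpec (α := α))
    simp only [Scheme.Hom.comp_apply] at this
    exact this.symm
  · have := congrArg (fun t => t w) (FerrandPush.Chart.specMap_q_fromSpec (α := α))
    simp only [Scheme.Hom.comp_apply] at this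
    exact this.symm

/-- The first leg is injective off the overlap. -/
theorem injective_left {x₁ x₂ : X} (h : a x₁ = a x₂) :
    x₁ = x₂ ∨ (x₁ ∈ Set.range i ∧ x₂ ∈ Set.range i) := by
  obtain ⟨α, ρ, _, hx, hA, -, ha, -⟩ := exists_chart_at hP (a x₁)
  obtain ⟨y₁, rfl⟩ := ha x₁ hx
  obtain ⟨y₂, rfl⟩ := ha x₂ (h ▸ hx)
  simp only [← Scheme.Hom.comp_apply, ← hA] at h
  simp only [Scheme.Hom.comp_apply] at h
  have h' : PrimeSpectrum.comap α.cart.snd y₁ = PrimeSpectrum.comap α.cart.snd y₂ :=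
    ρ.isOpenEmbedding.injective h
  have off : ∀ y y' : PrimeSpectrum Γ(X, α.U),
      PrimeSpectrum.comap α.cart.snd y' = PrimeSpectrum.comap α.cart.snd y →
      ¬ RingHom.ker α.cart.p ≤ y.asIdeal → y' = y := by
    intro y y' e hy0
    obtain ⟨k, hk, hky⟩ := Set.not_subset.mp hy0
    have hk0 : α.cart.p k = 0 := hk
    have he : ∀ d, α.cart.snd d ∈ y'.asIdeal ↔ α.cart.snd d ∈ y.asIdeal := fun d =>
      SetLike.ext_iff.mp (congrArg PrimeSpectrum.asIdeal e) d
    obtain ⟨c, -, hc₂⟩ := α.cart.lift' 0 k (by rw [map_zero, hk0])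
    have hky' : k ∉ y'.asIdeal := fun h => hky (hc₂ ▸ (he c).mp (hc₂.symm ▸ h))
    refine PrimeSpectrum.ext (Ideal.ext fun r => ?_)
    obtain ⟨d, -, hd₂⟩ := α.cart.lift' 0 (r * k) (by rw [map_zero, map_mul, hk0, mul_zero])
    have hak := he d
    rw [hd₂] at hak
    exact ⟨fun h => ((y.2.mem_or_mem (hak.mp (y'.asIdeal.mul_mem_right _ h))).resolve_right hky),
      fun h => ((y'.2.mem_or_mem (hak.mpr (y.asIdeal.mul_mem_right _ h))).resolve_right hky')⟩
  have inI : ∀ y : PrimeSpectrum Γ(X, α.U), RingHom.ker α.cart.p ≤ y.asIdeal →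
      α.hU.fromSpec y ∈ Set.range i := by
    intro y hy
    obtain ⟨w, rfl⟩ := α.cart.exists_comap_p hy
    refine ⟨α.hW.fromSpec w, ?_⟩
    have := congrArg (fun t => t w) (FerrandPush.Chart.specMap_p_fromSpec (α := α))
    simp only [Scheme.Hom.comp_apply] at this
    exact this.symm
  by_cases h1 : RingHom.ker α.cart.p ≤ y₁.asIdeal
  · by_cases h2 : RingHom.ker α.cart.p ≤ y₂.asIdeal
    · exact Or.inr ⟨inI _ h1, inI _ h2⟩
    · exact Or.inl (congrArg _ (off y₂ y₁ h' h2))
  · exact Or.inl (congrArg _ (off y₁ y₂ h'.symm h1).symm)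

/-- A subset with open traces on both legs is open. -/
theorem isOpen_of_preimages {s : Set P} (ha : IsOpen (a ⁻¹' s)) (hb : IsOpen (b ⁻¹' s)) : IsOpen s := by
  rw [isOpen_iff_forall_mem_open]
  intro x hx
  obtain ⟨α, ρ, _, hxρ, hA, hB, -, -⟩ := exists_chart_at hP x
  have htr : i ⁻¹ᵁ (⟨a ⁻¹' s, ha⟩ : X.Opens) = j ⁻¹ᵁ (⟨b ⁻¹' s, hb⟩ : Y.Opens) := by
    ext z
    show a (i z) ∈ s ↔ b (j z) ∈ s
    rw [← Scheme.Hom.comp_apply, hP.w, Scheme.Hom.comp_apply]
  let O := α.openOf ⟨a ⁻¹' s, ha⟩ ⟨b ⁻¹' s, hb⟩ htr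
  have hO : ρ ⁻¹' s = (O : Set α.obj) := by
    ext c
    rcases α.cart.exists_prime c with ⟨y, rfl⟩ | ⟨y, rfl⟩
    · have h1 := congrArg (fun t => t y) hB
      simp only [Scheme.Hom.comp_apply] at h1
      refine Iff.trans ?_ (Set.ext_iff.1 (α.iB_preimage_openOf _ _ htr) y).symm
      show ρ (α.cart.iB y) ∈ s ↔ b (α.hV.fromSpec y) ∈ s
      rw [h1]
      rfl
    · have h1 := congrArg (fun t => t y) hA
      simp only [Scheme.Hom.comp_apply] at h1
      refine Iff.trans ?_ (Set.ext_iff.1 (α.iA'_preimage_openOf _ _ htr) y).symm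
      show ρ (α.cart.iA' y) ∈ s ↔ a (α.hU.fromSpec y) ∈ s
      rw [h1]
      rfl
  refine ⟨ρ '' (ρ ⁻¹' s), Set.image_preimage_subset _ _, ?_, ?_⟩
  · rw [hO]; exact ρ.isOpenEmbedding.isOpenMap _ O.isOpen
  · obtain ⟨c, rfl⟩ := hxρ
    exact ⟨c, hx, rfl⟩

local notation "𝐅" => Scheme.forgetToLocallyRingedSpace ⋙ LocallyRingedSpace.forgetToSheafedSpace

/-- Morphisms out of the pushout are determined by the two legs. -/
theorem ringed_hom_ext {T : SheafedSpace CommRingCat.{u}} (m₁ m₂ : (𝐅).obj P ⟶ T)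
    (ha : (𝐅).map a ≫ m₁ = (𝐅).map a ≫ m₂) (hb : (𝐅).map b ≫ m₁ = (𝐅).map b ≫ m₂) : m₁ = m₂ := by
  obtain ⟨⟨β₁, c₁⟩⟩ := m₁
  obtain ⟨⟨β₂, c₂⟩⟩ := m₂
  have hβ : β₁ = β₂ := by
    ext x
    rcases jointly_surjective_of_scheme hP x with ⟨y, rfl⟩ | ⟨y, rfl⟩
    · exact congrArg (fun m => m.hom.base y) ha
    · exact congrArg (fun m => m.hom.base y) hb
  subst hβ
  congr 2
  refine NatTrans.ext (funext fun V => ?_)
  refine CommRingCat.hom_ext (RingHom.ext fun r => sections_ext hP ((Opens.map β₁).obj V.unop) ?_ ?_)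
  · have h := PresheafedSpace.congr_app (congrArg InducedCategory.Hom.hom ha) V
    simp only [eqToHom_refl, CategoryTheory.Functor.map_id, Category.comp_id] at h
    exact congrArg (fun φ => φ.hom r) h
  · have h := PresheafedSpace.congr_app (congrArg InducedCategory.Hom.hom hb) V
    simp only [eqToHom_refl, CategoryTheory.Functor.map_id, Category.comp_id] at h
    exact congrArg (fun φ => φ.hom r) h

section desc

variable {T : SheafedSpace CommRingCat.{u}} {u : (𝐅).obj X ⟶ T} {v : (𝐅).obj Y ⟶ T}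
  (w : (𝐅).map i ≫ u = (𝐅).map j ≫ v)

include w

theorem exists_fun : ∃ f : P → T, (∀ x, f (a x) = u.hom.base x) ∧ ∀ y, f (b y) = v.hom.base y := by
  classical
  have hw : ∀ z, u.hom.base (i z) = v.hom.base (j z) := fun z => congrArg (fun m => m.hom.base z) w
  let f : P → T := fun p =>
    if h : ∃ y, b y = p then v.hom.base h.choose
    else u.hom.base ((jointly_surjective_of_scheme hP p).resolve_right h).choose
  refine ⟨f, fun x => ?_, fun y => ?_⟩
  · by_cases h : ∃ y, b y = a x
    · show dite _ _ _ = _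
      rw [dif_pos h]
      obtain ⟨z, hz, hz'⟩ := exists_overlap hP h.choose_spec.symm
      rw [← hz', ← hw, hz]
    · show dite _ _ _ = _
      rw [dif_neg h]
      rcases injective_left hP ((jointly_surjective_of_scheme hP (a x)).resolve_right h).choose_spec with
        e | ⟨-, z, hz⟩
      · rw [e]
      · refine absurd ⟨j z, ?_⟩ h
        rw [← Scheme.Hom.comp_apply, ← hP.w, Scheme.Hom.comp_apply, hz]
  · have h : ∃ y', b y' = b y := ⟨y, rfl⟩
    show dite _ _ _ = _
    rw [dif_pos h, injective_right hP h.choose_spec]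

theorem exists_desc : ∃ m : (𝐅).obj P ⟶ T, (𝐅).map a ≫ m = u ∧ (𝐅).map b ≫ m = v := by
  obtain ⟨f, hfa, hfb⟩ := exists_fun hP w
  have hf : Continuous f := by
    refine ⟨fun s hs => isOpen_of_preimages hP ?_ ?_⟩
    · rw [show a ⁻¹' (f ⁻¹' s) = u.hom.base ⁻¹' s from Set.ext fun x => by simp [hfa x]]
      exact hs.preimage u.hom.base.hom.continuous
    · rw [show b ⁻¹' (f ⁻¹' s) = v.hom.base ⁻¹' s from Set.ext fun x => by simp [hfb x]]
      exact hs.preimage v.hom.base.hom.continuous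
  let β : ((𝐅).obj P).toPresheafedSpace.carrier ⟶ T.toPresheafedSpace.carrier := TopCat.ofHom ⟨f, hf⟩
  have hUa : ∀ V, a ⁻¹ᵁ ((Opens.map β).obj V) = (Opens.map u.hom.base).obj V := fun V =>
    Opens.ext (Set.ext fun x => show f (a x) ∈ (V : Set T) ↔ _ by rw [hfa]; rfl)
  have hVb : ∀ V, b ⁻¹ᵁ ((Opens.map β).obj V) = (Opens.map v.hom.base).obj V := fun V =>
    Opens.ext (Set.ext fun x => show f (b x) ∈ (V : Set T) ↔ _ by rw [hfb]; rfl)
  let uA : ∀ V, T.presheaf.obj (op V) ⟶ Γ(X, a ⁻¹ᵁ ((Opens.map β).obj V)) := fun V =>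
    u.hom.c.app (op V) ≫ X.presheaf.map (eqToHom (hUa V)).op
  let vB : ∀ V, T.presheaf.obj (op V) ⟶ Γ(Y, b ⁻¹ᵁ ((Opens.map β).obj V)) := fun V =>
    v.hom.c.app (op V) ≫ Y.presheaf.map (eqToHom (hVb V)).op
  have hcompM : ∀ V, uA V ≫ i.appLE _ (i ⁻¹ᵁ (a ⁻¹ᵁ ((Opens.map β).obj V))) le_rfl =
      vB V ≫ j.appLE _ (i ⁻¹ᵁ (a ⁻¹ᵁ ((Opens.map β).obj V))) (trace_eq hP _).le := by
    intro V
    have h : u.hom.c.app (op V) ≫ i.app ((Opens.map u.hom.base).obj V) =
        (v.hom.c.app (op V) ≫ j.app ((Opens.map v.hom.base).obj V)) ≫ Z.presheaf.map (eqToHom _) :=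
      PresheafedSpace.congr_app (congrArg InducedCategory.Hom.hom w) (op V)
    simp only [uA, vB, Category.assoc, Scheme.Hom.map_appLE]
    simp only [Scheme.Hom.appLE]
    rw [← Category.assoc, h]
    simp only [Category.assoc]
    exact congrArg (fun m => v.hom.c.app (op V) ≫ m) (congrArg (fun m => j.app _ ≫ m)
      ((Z.presheaf.map_comp _ _).symm.trans (congrArg Z.presheaf.map (Subsingleton.elim _ _))))
  have hcomp : ∀ V r, i.appLE _ (i ⁻¹ᵁ (a ⁻¹ᵁ ((Opens.map β).obj V))) le_rfl (uA V r) =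
      j.appLE _ (i ⁻¹ᵁ (a ⁻¹ᵁ ((Opens.map β).obj V))) (trace_eq hP _).le (vB V r) :=
    fun V r => congrArg (fun m => m.hom r) (hcompM V)
  choose c hca hcb using fun V r => sections_exists hP ((Opens.map β).obj V) (uA V r) (vB V r) (hcomp V r)
  have hadd : ∀ V r r', c V (r + r') = c V r + c V r' := fun V r r' =>
    sections_ext hP _ (by simp only [hca, map_add]) (by simp only [hcb, map_add])
  have hmul : ∀ V r r', c V (r * r') = c V r * c V r' := fun V r r' =>
    sections_ext hP _ (by simp only [hca, map_mul]) (by simp only [hcb, map_mul])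
  have hone : ∀ V, c V 1 = 1 := fun V =>
    sections_ext hP _ (by simp only [hca, map_one]) (by simp only [hcb, map_one])
  have hzero : ∀ V, c V 0 = 0 := fun V =>
    sections_ext hP _ (by simp only [hca, map_zero]) (by simp only [hcb, map_zero])
  let cH : ∀ V, T.presheaf.obj (op V) ⟶ Γ(P, (Opens.map β).obj V) := fun V => CommRingCat.ofHom
        { toFun := c V
          map_one' := hone _
          map_mul' := hmul _
          map_zero' := hzero _
          map_add' := hadd _ }
  have hcA : ∀ V, cH V ≫ a.app _ = uA V := fun V => CommRingCat.hom_ext (RingHom.ext (hca V))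
  have hcB : ∀ V, cH V ≫ b.app _ = vB V := fun V => CommRingCat.hom_ext (RingHom.ext (hcb V))
  let nat : T.presheaf ⟶ β _* ((𝐅).obj P).presheaf :=
    { app := fun V => cH V.unop
      naturality := fun V V' g => by
        have natA : (T.presheaf.map g ≫ cH V'.unop) ≫ a.app _ =
            (cH V.unop ≫ P.presheaf.map ((Opens.map β).map g.unop).op) ≫ a.app _ := by
          refine (Category.assoc _ _ _).trans ((congrArg (T.presheaf.map g ≫ ·) (hcA V'.unop)).trans ?_)
          refine Eq.trans ?_ ((Category.assoc _ _ _).trans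
            (congrArg (cH V.unop ≫ ·) (a.naturality ((Opens.map β).map g.unop).op))).symm
          refine Eq.trans ?_ ((congrArg (· ≫ X.presheaf.map _) (hcA V.unop)).symm.trans (Category.assoc _ _ _))
          refine Eq.trans ?_ (Category.assoc _ _ _).symm
          refine ((Category.assoc _ _ _).symm.trans (congrArg (· ≫ _) (u.hom.c.naturality g))).trans ?_
          refine (Category.assoc _ _ _).trans (congrArg (fun m => u.hom.c.app V ≫ m) ?_)
          exact (X.presheaf.map_comp _ _).symm.trans ((congrArg X.presheaf.map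
            (Subsingleton.elim _ _)).trans (X.presheaf.map_comp _ _))
        have natB : (T.presheaf.map g ≫ cH V'.unop) ≫ b.app _ =
            (cH V.unop ≫ P.presheaf.map ((Opens.map β).map g.unop).op) ≫ b.app _ := by
          refine (Category.assoc _ _ _).trans ((congrArg (T.presheaf.map g ≫ ·) (hcB V'.unop)).trans ?_)
          refine Eq.trans ?_ ((Category.assoc _ _ _).trans
            (congrArg (cH V.unop ≫ ·) (b.naturality ((Opens.map β).map g.unop).op))).symm
          refine Eq.trans ?_ ((congrArg (· ≫ Y.presheaf.map _) (hcB V.unop)).symm.trans (Category.assoc _ _ _))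
          refine Eq.trans ?_ (Category.assoc _ _ _).symm
          refine ((Category.assoc _ _ _).symm.trans (congrArg (· ≫ _) (v.hom.c.naturality g))).trans ?_
          refine (Category.assoc _ _ _).trans (congrArg (fun m => v.hom.c.app V ≫ m) ?_)
          exact (Y.presheaf.map_comp _ _).symm.trans ((congrArg Y.presheaf.map
            (Subsingleton.elim _ _)).trans (Y.presheaf.map_comp _ _))
        exact CommRingCat.hom_ext (RingHom.ext fun r => sections_ext hP _
          (congrArg (fun m => m.hom r) natA) (congrArg (fun m => m.hom r) natB)) }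
  refine ⟨InducedCategory.homMk ⟨β, nat⟩, ?_, ?_⟩
  · refine InducedCategory.hom_ext (PresheafedSpace.ext _ _ (TopCat.ext fun x => hfa x) ?_)
    refine NatTrans.ext (funext fun V => ?_)
    show (cH V.unop ≫ a.app _) ≫ X.presheaf.map _ = u.hom.c.app V
    rw [hcA]
    simp only [uA, Category.assoc]
    refine (congrArg (fun m => u.hom.c.app V ≫ m) ((X.presheaf.map_comp _ _).symm.trans
      ((congrArg X.presheaf.map (Subsingleton.elim _ (𝟙 _))).trans (X.presheaf.map_id _)))).trans
      (Category.comp_id _)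
  · refine InducedCategory.hom_ext (PresheafedSpace.ext _ _ (TopCat.ext fun x => hfb x) ?_)
    refine NatTrans.ext (funext fun V => ?_)
    show (cH V.unop ≫ b.app _) ≫ Y.presheaf.map _ = v.hom.c.app V
    rw [hcB]
    simp only [vB, Category.assoc]
    refine (congrArg (fun m => v.hom.c.app V ≫ m) ((Y.presheaf.map_comp _ _).symm.trans
      ((congrArg Y.presheaf.map (Subsingleton.elim _ (𝟙 _))).trans (Y.presheaf.map_id _)))).trans
      (Category.comp_id _)

end desc

/-- The pushout of schemes is a pushout of ringed spaces. -/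
theorem isPushout_ringed : IsPushout ((𝐅).map i) ((𝐅).map j) ((𝐅).map a) ((𝐅).map b) := by
  have hw : (𝐅).map i ≫ (𝐅).map a = (𝐅).map j ≫ (𝐅).map b := by
    rw [← Functor.map_comp, ← Functor.map_comp, hP.w]
  refine IsPushout.of_isColimit' ⟨hw⟩ (PushoutCocone.IsColimit.mk hw
    (fun s => (exists_desc hP s.condition).choose)
    (fun s => (exists_desc hP s.condition).choose_spec.1)
    (fun s => (exists_desc hP s.condition).choose_spec.2)
    (fun s m hl hr => ringed_hom_ext hP _ _ (hl.trans (exists_desc hP s.condition).choose_spec.1.symm)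
      (hr.trans (exists_desc hP s.condition).choose_spec.2.symm)))

end Groth.Agent.PinchFlatLib
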