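import Groth.Agent.FerrandPush.BaseChange

/-!
# Functions and topology of a pushout along a closed immersion and an affine morphism
-/

set_option autoImplicit false
set_option backward.isDefEq.respectTransparency false
set_option linter.style.haveILetI false

universe u

open CategoryTheory CategoryTheory.Limits AlgebraicGeometry TopologicalSpace

noncomputable section

namespace Groth.Agent.PinchFlatLib

/-- The affine line over `ℤ`. -/
abbrev line : Scheme.{u} := Spec (CommRingCat.of (Polynomial (ULift.{u} ℤ)))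

/-- The function classified by a morphism to the affine line. -/
def fromA {T : Scheme.{u}} (f : T ⟶ line.{u}) : Γ(T, ⊤) :=
  ((Scheme.ΓSpecIso _).inv ≫ f.appTop) (Polynomial.X)

/-- The morphism to the affine line classifying a function. -/
def toA {T : Scheme.{u}} (s : Γ(T, ⊤)) : T ⟶ line.{u} :=
  T.toSpecΓ ≫ Spec.map (CommRingCat.ofHom
    (Polynomial.eval₂RingHom ((algebraMap ℤ Γ(T, ⊤)).comp ULift.ringEquiv.toRingHom) s))

theorem appTop_toA {T : Scheme.{u}} (s : Γ(T, ⊤)) :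
    (Scheme.ΓSpecIso _).inv ≫ (toA s).appTop = CommRingCat.ofHom
      (Polynomial.eval₂RingHom ((algebraMap ℤ Γ(T, ⊤)).comp ULift.ringEquiv.toRingHom) s) := by
  rw [toA, Scheme.Hom.comp_appTop, Scheme.toSpecΓ_appTop, Scheme.ΓSpecIso_naturality,
    Iso.inv_hom_id_assoc]

theorem fromA_toA {T : Scheme.{u}} (s : Γ(T, ⊤)) : fromA (toA s) = s := by
  rw [fromA, appTop_toA]
  exact Polynomial.eval₂_X _ _

theorem fromA_injective {T : Scheme.{u}} : Function.Injective (fromA : (T ⟶ line.{u}) → Γ(T, ⊤)) := by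
  intro f g h
  refine ext_of_isAffine ((cancel_epi (Scheme.ΓSpecIso _).inv).1 ?_)
  ext1
  refine Polynomial.ringHom_ext (fun z => ?_) h
  have hz : z = (z.down : ULift.{u} ℤ) := ULift.ext _ _ (by simp)
  rw [hz, map_intCast, map_intCast, map_intCast]

theorem fromA_comp {T T' : Scheme.{u}} (g : T ⟶ T') (f : T' ⟶ line.{u}) :
    fromA (g ≫ f) = g.appTop (fromA f) := by
  simp [fromA]

theorem fromA_resLE_comp {X Y : Scheme.{u}} (g : X ⟶ Y) {U : Y.Opens} {V : X.Opens} (e : V ≤ g ⁻¹ᵁ U)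
    (f : U.toScheme ⟶ line.{u}) :
    V.topIso.hom (fromA (g.resLE U V e ≫ f)) = g.appLE U V e (U.topIso.hom (fromA f)) := by
  rw [fromA_comp, Scheme.Hom.appTop, Scheme.Hom.resLE_app_top, CommRingCat.comp_apply,
    CommRingCat.comp_apply, Iso.inv_hom_id_apply]

theorem fromA_restrict_comp {X Y : Scheme.{u}} (g : X ⟶ Y) (U : Y.Opens)
    (f : U.toScheme ⟶ line.{u}) :
    (g ⁻¹ᵁ U).topIso.hom (fromA (g ∣_ U ≫ f)) = g.app U (U.topIso.hom (fromA f)) := by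
  rw [← Scheme.Hom.resLE_eq_morphismRestrict, fromA_resLE_comp, Scheme.Hom.app_eq_appLE]

variable {X Y Z P : Scheme.{u}} {i : Z ⟶ X} {j : Z ⟶ Y} [IsClosedImmersion i]
  [IsAffineHom j] {a : X ⟶ P} {b : Y ⟶ P} [IsAffineHom a] [IsAffineHom b]
  (hP : IsPushout i j a b)

include hP

theorem trace_eq (O : P.Opens) : i ⁻¹ᵁ (a ⁻¹ᵁ O) = j ⁻¹ᵁ (b ⁻¹ᵁ O) := by
  rw [← Scheme.Hom.comp_preimage, ← Scheme.Hom.comp_preimage, hP.w]

/-- Restriction of the pushout to an open subscheme. -/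
theorem isPushout_restrict (O : P.Opens) :
    IsPushout (i.resLE (a ⁻¹ᵁ O) (i ⁻¹ᵁ (a ⁻¹ᵁ O)) le_rfl)
      (j.resLE (b ⁻¹ᵁ O) (i ⁻¹ᵁ (a ⁻¹ᵁ O)) (trace_eq hP O).le)
      (a ∣_ O) (b ∣_ O) := by
  rw [Scheme.Hom.resLE_eq_morphismRestrict]
  refine FerrandPush.isPushout_baseChange hP (𝟙 P) O.ι (Or.inl inferInstance)
    (pP := O.ι) (sPT := 𝟙 _) (IsPullback.of_vert_isIso ⟨by simp⟩)
    (pX := (a ⁻¹ᵁ O).ι) (isPullback_morphismRestrict a O).flip
    (pY := (b ⁻¹ᵁ O).ι) (isPullback_morphismRestrict b O).flip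
    (pZ := (i ⁻¹ᵁ (a ⁻¹ᵁ O)).ι) (isPullback_morphismRestrict i _).flip ?_ ?_
  · exact Scheme.Hom.resLE_comp_ι j _
  · rw [← cancel_mono O.ι, Category.assoc, morphismRestrict_ι, Category.assoc, morphismRestrict_ι,
      Scheme.Hom.resLE_comp_ι_assoc, morphismRestrict_ι_assoc, hP.w]

/-- Functions on the pushout are determined by their two restrictions. -/
theorem sections_ext (O : P.Opens) {s t : Γ(P, O)} (ha : a.app O s = a.app O t)
    (hb : b.app O s = b.app O t) : s = t := by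
  have key : ∀ r : Γ(P, O), ∃ f : O.toScheme ⟶ line.{u}, O.topIso.hom (fromA f) = r := fun r =>
    ⟨toA (O.topIso.inv r), by rw [fromA_toA, Iso.inv_hom_id_apply]⟩
  obtain ⟨f, rfl⟩ := key s
  obtain ⟨g, rfl⟩ := key t
  congr 2
  have leg : ∀ {T : Scheme.{u}} (c : T ⟶ P), c.app O (O.topIso.hom (fromA f)) = c.app O (O.topIso.hom (fromA g)) →
      (c ∣_ O) ≫ f = (c ∣_ O) ≫ g := by
    intro T c h
    rw [← Scheme.Hom.resLE_eq_morphismRestrict]
    refine fromA_injective (((c ⁻¹ᵁ O).topIso.commRingCatIsoToRingEquiv).injective ?_)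
    show (c ⁻¹ᵁ O).topIso.hom _ = (c ⁻¹ᵁ O).topIso.hom _
    rw [fromA_resLE_comp, fromA_resLE_comp, ← Scheme.Hom.app_eq_appLE]
    exact h
  exact (isPushout_restrict hP O).hom_ext (leg a ha) (leg b hb)

/-- Compatible functions glue. -/
theorem sections_exists (O : P.Opens) (sX : Γ(X, a ⁻¹ᵁ O)) (sY : Γ(Y, b ⁻¹ᵁ O))
    (h : i.appLE (a ⁻¹ᵁ O) (i ⁻¹ᵁ (a ⁻¹ᵁ O)) le_rfl sX =
      j.appLE (b ⁻¹ᵁ O) (i ⁻¹ᵁ (a ⁻¹ᵁ O)) (trace_eq hP O).le sY) :
    ∃ s : Γ(P, O), a.app O s = sX ∧ b.app O s = sY := by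
  have hR := isPushout_restrict hP O
  let fX := toA ((a ⁻¹ᵁ O).topIso.inv sX)
  let fY := toA ((b ⁻¹ᵁ O).topIso.inv sY)
  have hc : i.resLE (a ⁻¹ᵁ O) (i ⁻¹ᵁ (a ⁻¹ᵁ O)) le_rfl ≫ fX =
      j.resLE (b ⁻¹ᵁ O) (i ⁻¹ᵁ (a ⁻¹ᵁ O)) (trace_eq hP O).le ≫ fY := by
    refine fromA_injective (((i ⁻¹ᵁ (a ⁻¹ᵁ O)).topIso.commRingCatIsoToRingEquiv).injective ?_)
    show (i ⁻¹ᵁ (a ⁻¹ᵁ O)).topIso.hom _ = (i ⁻¹ᵁ (a ⁻¹ᵁ O)).topIso.hom _
    rw [fromA_resLE_comp, fromA_resLE_comp, fromA_toA, fromA_toA, Iso.inv_hom_id_apply,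
      Iso.inv_hom_id_apply]
    exact h
  refine ⟨O.topIso.hom (fromA (hR.desc fX fY hc)), ?_, ?_⟩
  · have := congrArg (fun f => (a ⁻¹ᵁ O).topIso.hom (fromA f)) (hR.inl_desc fX fY hc)
    rw [fromA_restrict_comp, fromA_toA, Iso.inv_hom_id_apply] at this
    exact this
  · have := congrArg (fun f => (b ⁻¹ᵁ O).topIso.hom (fromA f)) (hR.inr_desc fX fY hc)
    rw [fromA_restrict_comp, fromA_toA, Iso.inv_hom_id_apply] at this
    exact this

end Groth.Agent.PinchFlatLib
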